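import Groth.Agent.H16Derived.DerComp.SiteTensor
import Mathlib.Algebra.Homology.ShortComplex.ExactFunctor

/-!
# Right exactness of `M ↦ Hᵖ(M ⊗ᴸ E)`
-/

set_option autoImplicit false
set_option linter.style.haveILetI false
set_option linter.style.setOption false
set_option maxHeartbeats 800000

universe u

open CategoryTheory CategoryTheory.Limits

namespace Groth.Agent.H16Derived.TensorH

open Opposite H15Site H15Site.ModTensor H15Site.ModKFlat DerCompLib

attribute [local instance] HasDerivedCategory.standard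
attribute [local instance 10000] SiteInst.hasSheafifySite SiteInst.hasWeakSheafifySite

variable {C : Type u} [SmallCategory C] {J : GrothendieckTopology C} {O : Sheaf J CommRingCat.{u}}
  (E : CochainComplex (ModSite.Mod O) ℤ)

/-- `M ↦ M ⊗ E`, termwise. -/
noncomputable def G : ModSite.Mod O ⥤ CochainComplex (ModSite.Mod O) ℤ where
  obj M := (((ModSite.tensorBi O).obj M).mapHomologicalComplex (ComplexShape.up ℤ)).obj E
  map f := (NatTrans.mapHomologicalComplex ((ModSite.tensorBi O).map f) (ComplexShape.up ℤ)).app E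
  map_id M := HomologicalComplex.hom_ext _ _ fun q => by
    show ((ModSite.tensorBi O).map (𝟙 M)).app (E.X q) = 𝟙 _
    rw [CategoryTheory.Functor.map_id]
    rfl
  map_comp f g := HomologicalComplex.hom_ext _ _ fun q => by
    show ((ModSite.tensorBi O).map (f ≫ g)).app (E.X q) =
      ((ModSite.tensorBi O).map f).app (E.X q) ≫ ((ModSite.tensorBi O).map g).app (E.X q)
    rw [Functor.map_comp]
    rfl

instance : (G E).Additive where
  map_add {M N f g} := HomologicalComplex.hom_ext _ _ fun q => by
    show ((ModSite.tensorBi O).map (f + g)).app (E.X q) =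
      ((ModSite.tensorBi O).map f).app (E.X q) + ((ModSite.tensorBi O).map g).app (E.X q)
    rw [Functor.map_add]
    rfl

instance (priority := 10000) preservesZeroMorphisms_G : (G E).PreservesZeroMorphisms :=
  Functor.preservesZeroMorphisms_of_additive (G E)

section

variable {E}
variable (hE : ∀ i : ℤ, ModSite.IsFlat (E.X i))
include hE

theorem shortExact_map (S : ShortComplex (ModSite.Mod O)) (hS : S.ShortExact) : (S.map (G E)).ShortExact :=
  HomologicalComplex.shortExact_of_degreewise_shortExact _ fun q =>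
    ShortComplex.shortExact_of_iso (ShortComplex.isoMk (Iso.refl _) (Iso.refl _) (Iso.refl _)
      ((Category.id_comp _).trans (Category.comp_id _).symm) ((Category.id_comp _).trans (Category.comp_id _).symm))
      ((isFlatObj_iff (E.X q)).2 (hE q) S hS)

theorem preservesFiniteColimits_of_flat (p : ℤ) (hQ : ModSite.IsFlat (cokernel (E.d p (p + 1)))) :
    PreservesFiniteColimits (G E ⋙ HomologicalComplex.homologyFunctor _ _ p) := by
  refine ((Functor.preservesFiniteColimits_tfae _).out 0 3).1 fun S hS => ?_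
  let hT := shortExact_map hE S hS
  refine ⟨hT.homology_exact₂ p, ?_⟩
  suffices h : Mono (HomologicalComplex.homologyMap ((G E).map S.f) (p + 1)) by
    have hδ : hT.δ p (p + 1) rfl = 0 := @zero_of_comp_mono _ _ _ _ _ _ _ _ h (hT.δ_comp p (p + 1) rfl)
    exact (hT.homology_exact₃ p (p + 1) rfl).epi_f hδ
  let K₁ := (G E).obj S.X₁
  let K₂ := (G E).obj S.X₂
  haveI := hS.mono_f
  rw [isFlat_iff] at hQ
  haveI : Mono ((tR (cokernel (E.d p (p + 1)))).map S.f) := hQ.preserves S.f
  let t₁ := ((ModSite.tensorBi O).obj S.X₁).map (cokernel.π (E.d p (p + 1)))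
  let t₂ := ((ModSite.tensorBi O).obj S.X₂).map (cokernel.π (E.d p (p + 1)))
  haveI := preservesColimits_tL (O := O) S.X₁
  haveI := preservesColimits_tL (O := O) S.X₂
  let h₁ : K₁.opcycles (p + 1) ≅ ((ModSite.tensorBi O).obj S.X₁).obj (cokernel (E.d p (p + 1))) :=
    (K₁.opcyclesIsCokernel p (p + 1) (by simp)).coconePointUniqueUpToIso
      (isColimitCoforkMapOfIsColimit' ((ModSite.tensorBi O).obj S.X₁) (cokernel.condition _)
        (cokernelIsCokernel (E.d p (p + 1))))
  let h₂ : K₂.opcycles (p + 1) ≅ ((ModSite.tensorBi O).obj S.X₂).obj (cokernel (E.d p (p + 1))) :=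
    (K₂.opcyclesIsCokernel p (p + 1) (by simp)).coconePointUniqueUpToIso
      (isColimitCoforkMapOfIsColimit' ((ModSite.tensorBi O).obj S.X₂) (cokernel.condition _)
        (cokernelIsCokernel (E.d p (p + 1))))
  have e₁ : K₁.pOpcycles (p + 1) ≫ h₁.hom = t₁ :=
    IsColimit.comp_coconePointUniqueUpToIso_hom (K₁.opcyclesIsCokernel p (p + 1) (by simp)) _ WalkingParallelPair.one
  have e₂ : K₂.pOpcycles (p + 1) ≫ h₂.hom = t₂ :=
    IsColimit.comp_coconePointUniqueUpToIso_hom (K₂.opcyclesIsCokernel p (p + 1) (by simp)) _ WalkingParallelPair.one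
  have hnat : HomologicalComplex.opcyclesMap ((G E).map S.f) (p + 1) ≫ h₂.hom =
      h₁.hom ≫ (tR (cokernel (E.d p (p + 1)))).map S.f := by
    rw [← cancel_epi (K₁.pOpcycles (p + 1)), HomologicalComplex.p_opcyclesMap_assoc, e₂, reassoc_of% e₁]
    exact (((ModSite.tensorBi O).map S.f).naturality (cokernel.π (E.d p (p + 1)))).symm
  haveI : Mono (HomologicalComplex.opcyclesMap ((G E).map S.f) (p + 1)) := by
    haveI : Mono (HomologicalComplex.opcyclesMap ((G E).map S.f) (p + 1) ≫ h₂.hom) := by
      rw [hnat]; infer_instance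
    exact mono_of_mono _ h₂.hom
  have hι := HomologicalComplex.homologyι_naturality ((G E).map S.f) (p + 1)
  haveI : Mono (HomologicalComplex.homologyMap ((G E).map S.f) (p + 1) ≫ K₂.homologyι (p + 1)) := by
    rw [hι]; infer_instance
  exact mono_of_mono _ (K₂.homologyι (p + 1))

theorem isFlat_of_preservesFiniteColimits (p : ℤ)
    [PreservesFiniteColimits (G E ⋙ HomologicalComplex.homologyFunctor _ _ p)] :
    ModSite.IsFlat (cokernel (E.d p (p + 1))) := by
  rw [isFlat_iff]
  refine ⟨fun {A B} f _ => ?_⟩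
  let S := ShortComplex.mk f (cokernel.π f) (cokernel.condition f)
  have hS : S.ShortExact := { exact := ShortComplex.exact_cokernel f }
  let hT := shortExact_map hE S hS
  let K₁ := (G E).obj A
  let K₂ := (G E).obj B
  haveI : Epi (HomologicalComplex.homologyMap ((G E).map (cokernel.π f)) p) :=
    inferInstanceAs (Epi ((G E ⋙ HomologicalComplex.homologyFunctor _ _ p).map (cokernel.π f)))
  have hδ : hT.δ p (p + 1) rfl = 0 :=
    @zero_of_epi_comp _ _ _ _ _ _ _ _ ‹Epi (HomologicalComplex.homologyMap ((G E).map (cokernel.π f)) p)›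
      (hT.comp_δ p (p + 1) rfl)
  haveI : Mono (HomologicalComplex.homologyMap ((G E).map f) (p + 1)) :=
    (hT.homology_exact₁ p (p + 1) rfl).mono_g hδ
  haveI : Mono (((G E).map f).f (p + 2)) :=
    ((isFlat_iff _).1 (hE (p + 2))).preserves f
  haveI : Mono (HomologicalComplex.opcyclesMap ((G E).map f) (p + 1)) := by
    refine Preadditive.mono_of_cancel_zero _ fun {W} t ht => ?_
    have h1 : t ≫ K₁.fromOpcycles (p + 1) (p + 2) = 0 := by
      have hn : K₁.fromOpcycles (p + 1) (p + 2) ≫ ((G E).map f).f (p + 2) =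
          HomologicalComplex.opcyclesMap ((G E).map f) (p + 1) ≫ K₂.fromOpcycles (p + 1) (p + 2) := by
        rw [← cancel_epi (K₁.pOpcycles (p + 1))]
        simp [K₁, K₂]
      rw [← cancel_mono (((G E).map f).f (p + 2)), zero_comp, Category.assoc, hn, reassoc_of% ht, zero_comp]
    let s := KernelFork.IsLimit.lift' (K₁.homologyIsKernel (p + 1) (p + 2) (by simp; omega)) t h1
    have hs : s.1 ≫ K₁.homologyι (p + 1) = t := s.2
    have : s.1 ≫ HomologicalComplex.homologyMap ((G E).map f) (p + 1) = 0 := by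
      rw [← cancel_mono (K₂.homologyι (p + 1)), zero_comp, Category.assoc,
        HomologicalComplex.homologyι_naturality, reassoc_of% hs, ht]
    have hs0 : s.1 = 0 := zero_of_comp_mono _ this
    rw [← hs, hs0, zero_comp]
  haveI := preservesColimits_tL (O := O) A
  haveI := preservesColimits_tL (O := O) B
  let h₁ : K₁.opcycles (p + 1) ≅ ((ModSite.tensorBi O).obj A).obj (cokernel (E.d p (p + 1))) :=
    (K₁.opcyclesIsCokernel p (p + 1) (by simp)).coconePointUniqueUpToIso
      (isColimitCoforkMapOfIsColimit' ((ModSite.tensorBi O).obj A) (cokernel.condition _)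
        (cokernelIsCokernel (E.d p (p + 1))))
  let h₂ : K₂.opcycles (p + 1) ≅ ((ModSite.tensorBi O).obj B).obj (cokernel (E.d p (p + 1))) :=
    (K₂.opcyclesIsCokernel p (p + 1) (by simp)).coconePointUniqueUpToIso
      (isColimitCoforkMapOfIsColimit' ((ModSite.tensorBi O).obj B) (cokernel.condition _)
        (cokernelIsCokernel (E.d p (p + 1))))
  have e₁ : K₁.pOpcycles (p + 1) ≫ h₁.hom = ((ModSite.tensorBi O).obj A).map (cokernel.π (E.d p (p + 1))) :=
    IsColimit.comp_coconePointUniqueUpToIso_hom (K₁.opcyclesIsCokernel p (p + 1) (by simp)) _ WalkingParallelPair.one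
  have e₂ : K₂.pOpcycles (p + 1) ≫ h₂.hom = ((ModSite.tensorBi O).obj B).map (cokernel.π (E.d p (p + 1))) :=
    IsColimit.comp_coconePointUniqueUpToIso_hom (K₂.opcyclesIsCokernel p (p + 1) (by simp)) _ WalkingParallelPair.one
  have hnat : HomologicalComplex.opcyclesMap ((G E).map f) (p + 1) ≫ h₂.hom =
      h₁.hom ≫ (tR (cokernel (E.d p (p + 1)))).map f := by
    rw [← cancel_epi (K₁.pOpcycles (p + 1)), HomologicalComplex.p_opcyclesMap_assoc, e₂, reassoc_of% e₁]
    exact (((ModSite.tensorBi O).map f).naturality (cokernel.π (E.d p (p + 1)))).symm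
  haveI : Mono (h₁.hom ≫ (tR (cokernel (E.d p (p + 1)))).map f) := by rw [← hnat]; infer_instance
  rw [← Iso.inv_hom_id_assoc h₁ ((tR (cokernel (E.d p (p + 1)))).map f)]
  infer_instance

theorem main (e : ℤ) (hEb : ∀ i : ℤ, e < i → IsZero (E.X i)) (p : ℤ) [ModSite.HasLTensorCx E] :
    PreservesFiniteColimits (DerivedCategory.singleFunctor (ModSite.Mod O) 0 ⋙ ModSite.LTensorCx E ⋙
      DerivedCategory.homologyFunctor (ModSite.Mod O) p) ↔ ModSite.IsFlat (cokernel (E.d p (p + 1))) := by
  haveI := ModKFlat.countableAB4 (O := O)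
  haveI := hasExactColimitsOfShape_nat (O := O)
  have hK : KFlat.IsKFlat (ModSite.tensorBi O) E :=
    KFlat.isKFlat_of_boundedAbove (F := ModSite.tensorBi O) E e (fun q hq => hEb q hq) fun q => (isFlatObj_iff _).2 (hE q)
  have hQ : ∀ {L L' : CochainComplex (ModSite.Mod O) ℤ} (φ : L ⟶ L'), QuasiIso φ →
      IsIso (DerivedCategory.Q.map (((ModSite.tensorCx O).map φ).app E)) := fun φ h => by
    haveI := h
    exact Localization.inverts DerivedCategory.Q (HomologicalComplex.quasiIso _ _) _
      (KFlat.quasiIso_left_map (ModSite.tensorBi O) φ hK)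
  let c := (ModSite.tensorCxQ E).totalLeftDerivedCounit DerivedCategory.Q
    (HomologicalComplex.quasiIso (ModSite.Mod O) (ComplexShape.up ℤ))
  have hinv : ∀ K, HomologicalComplex.quasiIso (ModSite.Mod O) (ComplexShape.up ℤ)
      ((KFlat.Res.ψ (cover O) (coverπ O)).app K) := fun K => (quasiIso_resψ K).1
  haveI : ∀ K, IsIso (c.app K) := fun K =>
    LeftDer.isIso_counit _ DerivedCategory.Q (F := ModSite.tensorCxQ E)
      (ψ := KFlat.Res.ψ (cover O) (coverπ O)) hinv
      (fun L L' φ (hφ : QuasiIso φ) => by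
        haveI : QuasiIso φ := hφ
        haveI := (quasiIso_resψ L).1
        haveI := (quasiIso_resψ L').1
        haveI : QuasiIso ((resFun O).map φ ≫ resψ L') := by
          rw [(KFlat.Res.ψ (cover O) (coverπ O)).naturality φ]
          exact quasiIso_comp (resψ L) φ
        haveI : QuasiIso ((resFun O).map φ) := quasiIso_of_comp_right ((resFun O).map φ) (resψ L')
        exact hQ ((resFun O).map φ) inferInstance)
      (fun L => hQ (resψ (res L)) (quasiIso_resψ (res L)).1) _ _ K (hQ (resψ K) (quasiIso_resψ K).1)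
  haveI : IsIso c := NatIso.isIso_of_isIso_app c
  let sg := CochainComplex.singleFunctor (ModSite.Mod O) 0
  let β : sg ⋙ (ModSite.tensorCx O).flip.obj E ≅ G E :=
    (NatIso.ofComponents (fun M => singleLeftApp (ModSite.tensorBi O) E M)
      (fun φ => singleLeftApp_natural (ModSite.tensorBi O) E φ)).symm
  let α : DerivedCategory.singleFunctor (ModSite.Mod O) 0 ⋙ ModSite.LTensorCx E ⋙
      DerivedCategory.homologyFunctor (ModSite.Mod O) p ≅ G E ⋙ HomologicalComplex.homologyFunctor _ _ p :=
    Functor.isoWhiskerRight (DerivedCategory.singleFunctorIsoCompQ (ModSite.Mod O) 0) _ ≪≫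
      Functor.isoWhiskerLeft sg (Functor.isoWhiskerRight (asIso c) (DerivedCategory.homologyFunctor _ p) ≪≫
        Functor.isoWhiskerLeft ((ModSite.tensorCx O).flip.obj E) (DerivedCategory.homologyFunctorFactors _ p)) ≪≫
      Functor.isoWhiskerRight β (HomologicalComplex.homologyFunctor _ _ p)
  constructor
  · intro h
    haveI := h
    haveI := preservesFiniteColimits_of_natIso α
    exact isFlat_of_preservesFiniteColimits hE p
  · intro h
    haveI := preservesFiniteColimits_of_flat hE p h
    exact preservesFiniteColimits_of_natIso α.symm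

end

end Groth.Agent.H16Derived.TensorH
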